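import Groth.Agent.Misc11EtHull.Sup
import Groth.Agent.EtaleBase.Rigidity
import Groth.Agent.Pi1Etale.EqLocus
import Groth.Agent.RefRank.AffineCompl
import Mathlib.Topology.Sober

/-!
# Initial objects among admissible factorisations through étale affine schemes
-/

set_option autoImplicit false
universe u

open CategoryTheory CategoryTheory.Limits AlgebraicGeometry TopologicalSpace

namespace Groth.EtHull

variable {X S : Scheme.{u}}

/-- In a quasi-sober space every point of a closed set is a specialisation of a maximal one. -/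
theorem exists_maximal_specializes {T : Type u} [TopologicalSpace T] [T0Space T] [QuasiSober T]
    {Z : Set T} (hZ : IsClosed Z) {x : T} (hx : x ∈ Z) :
    ∃ ξ ∈ Z, ξ ⤳ x ∧ ∀ w ∈ Z, w ⤳ ξ → w = ξ := by
  have : QuasiSober Z := hZ.isClosedEmbedding_subtypeVal.quasiSober
  let x' : Z := ⟨x, hx⟩
  let C : irreducibleComponents Z :=
    ⟨irreducibleComponent x', irreducibleComponent_mem_irreducibleComponents x'⟩
  let ξ := genericPoints.ofComponent C
  have hξ : IsGenericPoint ξ.1 (C : Set Z) := genericPoints.isGenericPoint_ofComponent C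
  refine ⟨ξ.1.1, ξ.1.2, (hξ.specializes mem_irreducibleComponent).map continuous_subtype_val,
    fun w hw hwξ => ?_⟩
  have h : (⟨w, hw⟩ : Z) ⤳ ξ.1 := Topology.IsInducing.subtypeVal.specializes_iff.mp hwξ
  have hle : (C : Set Z) ⊆ closure {⟨w, hw⟩} := by
    rw [← hξ.def]
    exact closure_minimal (Set.singleton_subset_iff.2 (specializes_iff_mem_closure.1 h)) isClosed_closure
  have heq : (C : Set Z) = closure {⟨w, hw⟩} := C.2.eq_of_le isIrreducible_singleton.closure hle
  exact congrArg Subtype.val (IsGenericPoint.eq heq.symm hξ)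

/-- A closed subset of a Noetherian sober space has finitely many maximal points. -/
theorem finite_maximal {T : Type u} [TopologicalSpace T] [T0Space T] [QuasiSober T] [NoetherianSpace T]
    {Z : Set T} (hZ : IsClosed Z) : {ξ | ξ ∈ Z ∧ ∀ w ∈ Z, w ⤳ ξ → w = ξ}.Finite := by
  obtain ⟨Q, hQ, hc, hi, rfl⟩ := NoetherianSpace.exists_finite_set_isClosed_irreducible hZ
  refine (hQ.biUnion (t := fun t => {ξ | IsGenericPoint ξ t})
    fun t _ => Set.Subsingleton.finite fun a ha b hb => ha.eq hb).subset ?_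
  rintro ξ ⟨⟨t, ht, hξt⟩, hmax⟩
  obtain ⟨η, hη⟩ := QuasiSober.sober (hi t ht) (hc t ht)
  exact Set.mem_biUnion ht (hmax η ⟨t, ht, hη.mem⟩ (hη.specializes hξt) ▸ hη)

/-- There are no proper chains of length two above a point whose local ring has dimension one. -/
theorem eq_or_eq_of_dim_le_one {E : Scheme.{u}} {x y z : E} (h : ringKrullDim (E.presheaf.stalk x) ≤ 1)
    (hyx : y ⤳ x) (hzy : z ⤳ y) : y = x ∨ z = y := by
  obtain ⟨q, hq⟩ : ∃ q : PrimeSpectrum (E.presheaf.stalk x), E.fromSpecStalk x q = y := by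
    show y ∈ Set.range (E.fromSpecStalk x)
    rw [Scheme.range_fromSpecStalk]; exact hyx
  obtain ⟨r, hr⟩ : ∃ q : PrimeSpectrum (E.presheaf.stalk x), E.fromSpecStalk x q = z := by
    show z ∈ Set.range (E.fromSpecStalk x)
    rw [Scheme.range_fromSpecStalk]; exact hzy.trans hyx
  by_contra! hne
  have hind := (E.fromSpecStalk x).isEmbedding.isInducing
  have hp : E.fromSpecStalk x (IsLocalRing.closedPoint (E.presheaf.stalk x)) = x :=
    Scheme.fromSpecStalk_closedPoint
  have h1 : r < q := by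
    refine lt_of_le_of_ne ((PrimeSpectrum.le_iff_specializes _ _).2 ?_) fun e => hne.2 ((hr.symm.trans (congrArg _ e)).trans hq)
    exact hind.specializes_iff.1 (by rw [hq, hr]; exact hzy)
  have h2 : q < IsLocalRing.closedPoint _ := by
    refine lt_of_le_of_ne ((PrimeSpectrum.le_iff_specializes _ _).2 ?_) fun e => hne.1 ((hq.symm.trans (congrArg _ e)).trans hp)
    exact hind.specializes_iff.1 (by rw [hq, hp]; exact hyx)
  let s : LTSeries (PrimeSpectrum (E.presheaf.stalk x)) :=
    ⟨2, ![r, q, IsLocalRing.closedPoint _], fun i => by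
      fin_cases i
      · exact h1
      · exact h2⟩
  have h3 : ((2 : ℕ) : WithBot ℕ∞) ≤ ((1 : ℕ) : WithBot ℕ∞) :=
    (Order.LTSeries.length_le_krullDim s).trans h
  exact absurd (Nat.cast_le.1 h3) (by decide)

/-- An open with affine inclusion containing a dense open `V` is determined by the maximal points of
the complement of `V` outside it. -/
theorem mem_maximal_compl {E : Scheme.{u}} [AlgebraicGeometry.IsNoetherian E] {V O : E.Opens} (hV : Dense (V : Set E))
    [IsAffineHom O.ι] {ξ : E} (hξ : ξ ∉ O) (hmax : ∀ w, w ∉ O → w ⤳ ξ → w = ξ) :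
    ∀ w, w ∉ V → w ⤳ ξ → w = ξ := by
  intro w hw hwξ
  obtain ⟨z, -, hzw, hz⟩ := exists_maximal_specializes isClosed_univ (Set.mem_univ w)
  rcases eq_or_eq_of_dim_le_one (Groth.RefRank.AffineCompl.stalk_dim_le_one O ξ hξ hmax) hwξ hzw with
    h | h
  · exact h
  · refine absurd ?_ hw
    rw [← h]
    -- maximal points lie in every dense open
    let C := irreducibleComponent z
    have hC := irreducibleComponent_mem_irreducibleComponents z
    obtain ⟨o, ho, hne, hoC⟩ := NoetherianSpace.exists_isOpen_nonempty_subset_irreducibleComponent C hC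
    obtain ⟨p, hpo, hpV⟩ := hV.inter_open_nonempty o ho hne
    obtain ⟨ζ, hζ⟩ := QuasiSober.sober hC.1 (isClosed_of_mem_irreducibleComponents C hC)
    rw [← hz ζ trivial (hζ.specializes mem_irreducibleComponent)]
    exact (hζ.specializes (hoC hpo)).mem_open V.isOpen hpV

/-- An étale separated morphism is an open immersion as soon as it is one on a dense open with dense
image and the two projections agree there. -/
theorem isOpenImmersion_of_refine {A E : Scheme.{u}} (g : A ⟶ S) [Etale g] (v : A ⟶ E) [Etale v]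
    [IsSeparated v] (h : E ⟶ S) (hv : v ≫ h = g) (u' : X ⟶ A) (hopen : IsOpen (Set.range u'))
    (hdense : DenseRange u') (hdenseE : DenseRange (u' ≫ v))
    (hP : pullback.fst (u' ≫ v) (u' ≫ v) ≫ u' = pullback.snd (u' ≫ v) (u' ≫ v) ≫ u') :
    IsOpenImmersion v := by
  let V' : A.Opens := ⟨Set.range u', hopen⟩
  let σ : X ⟶ V'.toScheme := IsOpenImmersion.lift V'.ι u' (by rw [Scheme.Opens.range_ι]; exact subset_rfl)
  have hσ : σ ≫ V'.ι = u' := IsOpenImmersion.lift_fac _ _ _
  have : Surjective σ := ⟨fun ⟨z, x, hx⟩ => ⟨x, Subtype.ext (by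
    show (σ ≫ V'.ι) x = z
    rw [hσ, hx])⟩⟩
  let j : V'.toScheme ⟶ E := V'.ι ≫ v
  have hσj : σ ≫ j = u' ≫ v := by rw [← hσ, Category.assoc]
  have hmono : pullback.fst j j = pullback.snd j j := by
    let m := pullback.map (σ ≫ j) (σ ≫ j) j j σ σ (𝟙 E) (Category.comp_id _) (Category.comp_id _)
    have : Surjective m := Groth.EtaleBase.surjective_pullback_map σ σ j
    refine Groth.EtaleBase.eq_of_surjective_agree (V'.ι ≫ g) _ _ ?_ m ?_
    · have := congrArg (· ≫ h) (pullback.condition (f := j) (g := j))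
      simpa [j, hv] using this
    · rw [← cancel_mono V'.ι]
      simp only [m, pullback.map, Category.assoc, pullback.lift_fst_assoc, pullback.lift_snd_assoc, hσ]
      have key : ∀ (k : X ⟶ E) (_ : k = u' ≫ v), pullback.fst k k ≫ u' = pullback.snd k k ≫ u' := by
        rintro k rfl; exact hP
      exact key _ hσj
  have : Mono j := ⟨fun a b hab => by rw [← pullback.lift_fst a b hab, hmono, pullback.lift_snd]⟩
  have : IsOpenImmersion j := IsOpenImmersion.of_flat_of_mono j
  let V : E.Opens := j.opensRange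
  have hdV : Dense (V : Set E) := hdenseE.mono (by
    rintro _ ⟨x, rfl⟩
    exact ⟨σ x, by rw [← Scheme.Hom.comp_apply, hσj]⟩)
  -- over `V` the morphism is `j`
  have hpre : ∀ a : A, v a ∈ V → a ∈ V' := by
    intro a ha
    let W : A.Opens := v ⁻¹ᵁ V
    let l : W.toScheme ⟶ V'.toScheme := IsOpenImmersion.lift j (W.ι ≫ v) (by
      rintro _ ⟨s, rfl⟩
      exact s.2)
    have hl : l ≫ j = W.ι ≫ v := IsOpenImmersion.lift_fac _ _ _
    have hVW : V' ≤ W := fun b hb => ⟨⟨b, hb⟩, rfl⟩
    have : W.ι = l ≫ V'.ι := by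
      refine Groth.Pi1Etale.eq_of_comp_eq_of_denseRange v _ _ (by rw [Category.assoc]; exact hl.symm)
        (A.homOfLE hVW) ?_ ?_
      · have : A.homOfLE hVW ≫ l = 𝟙 _ := by
          rw [← cancel_mono j, Category.assoc, hl, Scheme.homOfLE_ι_assoc, Category.id_comp]
        rw [Scheme.homOfLE_ι, reassoc_of% this]
      · intro b
        rw [mem_closure_iff]
        intro o ho hbo
        obtain ⟨o', ho', rfl⟩ := isOpen_induced_iff.mp ho
        obtain ⟨x, hxo, hxW⟩ := hdense.exists_mem_open (ho'.inter W.isOpen) ⟨b.1, hbo, b.2⟩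
        exact ⟨⟨u' x, hxW⟩, hxo, ⟨⟨u' x, x, rfl⟩, Subtype.ext (by
          show (A.homOfLE hVW ≫ W.ι) _ = _
          rw [Scheme.homOfLE_ι]; rfl)⟩⟩
    have h2 : a = (l ⟨a, ha⟩).1 := congrArg (fun k => k (⟨a, ha⟩ : W.toScheme)) this
    rw [h2]
    exact (l ⟨a, ha⟩).2
  have heq : pullback.fst v v = pullback.snd v v := by
    let p : pullback v v ⟶ E := pullback.fst v v ≫ v
    let Q : (pullback v v).Opens := p ⁻¹ᵁ V
    refine Groth.Pi1Etale.eq_of_comp_eq_of_denseRange v _ _ pullback.condition Q.ι ?_ ?_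
    · have lft : ∀ q : pullback v v ⟶ A, q ≫ v = p → ∃ l : Q.toScheme ⟶ V'.toScheme, l ≫ V'.ι = Q.ι ≫ q :=
        fun q hq => ⟨IsOpenImmersion.lift V'.ι (Q.ι ≫ q) (by
          rintro _ ⟨s, rfl⟩
          rw [Scheme.Opens.range_ι]
          refine hpre _ ?_
          show v ((Q.ι ≫ q) s) ∈ V
          rw [← Scheme.Hom.comp_apply, Category.assoc, hq]
          exact s.2), IsOpenImmersion.lift_fac _ _ _⟩
      obtain ⟨l₁, h₁⟩ := lft (pullback.fst v v) rfl
      obtain ⟨l₂, h₂⟩ := lft (pullback.snd v v) pullback.condition.symm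
      have : l₁ = l₂ := by
        rw [← cancel_mono j, reassoc_of% h₁, reassoc_of% h₂, pullback.condition]
      rw [← h₁, ← h₂, this]
    · show DenseRange Q.ι
      rw [DenseRange, Scheme.Opens.range_ι]
      exact hdV.preimage p.isOpenMap
  have : Mono v := ⟨fun a b hab => by rw [← pullback.lift_fst a b hab, heq, pullback.lift_snd]⟩
  exact IsOpenImmersion.of_flat_of_mono v

variable (f : X ⟶ S)

/-- An admissible factorisation of `f` through an étale affine scheme. -/
structure Adm where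
  /-- The middle scheme. -/
  E : Scheme.{u}
  /-- The structure morphism. -/
  g : E ⟶ S
  /-- The first morphism. -/
  u : X ⟶ E
  etale : Etale g
  affine : IsAffineHom g
  dom : IsSchemeTheoreticallyDominant u
  fac : u ≫ g = f

attribute [instance] Adm.etale Adm.affine Adm.dom

variable {f}

/-- Compatible morphisms of factorisations. -/
def Adm.Map (A B : Adm f) : Prop := ∃ v : A.E ⟶ B.E, A.u ≫ v = B.u ∧ v ≫ B.g = A.g

theorem Adm.hom_ext (A : Adm f) {E : Scheme.{u}} {g : E ⟶ S} [IsSeparated g] {v w : A.E ⟶ E}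
    (h : A.u ≫ v = A.u ≫ w) (hg : v ≫ g = w ≫ g) : v = w :=
  Groth.GrpschAbsch.ext_of_isSchemeTheoreticallyDominant g hg A.u h

theorem Adm.Map.trans {A B C : Adm f} (h₁ : A.Map B) (h₂ : B.Map C) : A.Map C := by
  obtain ⟨v, hv, hv'⟩ := h₁
  obtain ⟨w, hw, hw'⟩ := h₂
  exact ⟨v ≫ w, by rw [reassoc_of% hv, hw], by rw [Category.assoc, hw', hv']⟩

variable [AlgebraicGeometry.IsNoetherian S] [Flat f] [LocallyOfFinitePresentation f] [QuasiCompact f]

omit [AlgebraicGeometry.IsNoetherian S] in
/-- A morphism to an étale affine scheme over `S` through which `f` factors is flat, locally of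
finite presentation and quasi-compact. -/
theorem factor_properties {E : Scheme.{u}} (g : E ⟶ S) [Etale g] [IsAffineHom g] (p : X ⟶ E)
    (hp : p ≫ g = f) : Flat p ∧ LocallyOfFinitePresentation p ∧ QuasiCompact p := by
  let t : X ⟶ pullback f g := pullback.lift (𝟙 X) p (by rw [Category.id_comp, hp])
  have : IsOpenImmersion t :=
    Groth.EtaleBase.isOpenImmersion_section (pullback.fst f g) t (pullback.lift_fst _ _ _)
  have hpt : t ≫ pullback.snd f g = p := pullback.lift_snd _ _ _
  have : QuasiCompact (p ≫ g) := hp.symm ▸ inferInstance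
  exact ⟨hpt ▸ inferInstance, hpt ▸ inferInstance, QuasiCompact.of_comp p g⟩

omit [AlgebraicGeometry.IsNoetherian S] in
theorem Adm.isOpen_range (A : Adm f) : IsOpen (Set.range A.u) := by
  obtain ⟨_, _, _⟩ := factor_properties A.g A.u A.fac
  exact A.u.isOpenMap.isOpen_range

omit [AlgebraicGeometry.IsNoetherian S] in
theorem Adm.denseRange (A : Adm f) : DenseRange A.u := by
  obtain ⟨_, _, _⟩ := factor_properties A.g A.u A.fac
  exact A.u.denseRange

omit [Flat f] [LocallyOfFinitePresentation f] [QuasiCompact f] in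
theorem Adm.isNoetherian (A : Adm f) : AlgebraicGeometry.IsNoetherian A.E := by
  have : IsLocallyNoetherian A.E := LocallyOfFiniteType.isLocallyNoetherian A.g
  have : CompactSpace ↥A.E := QuasiCompact.compactSpace_of_compactSpace A.g
  exact { }

/-- Every factorisation through an étale affine scheme receives a map from an admissible one. -/
theorem exists_adm (hS : ∀ s : S, CAlg2.IsGeomUnibranch (S.presheaf.stalk s))
    (hemb : AssSch.NoEmbedded (Coh.structureModule S)) {E : Scheme.{u}} (g : E ⟶ S) [Etale g]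
    [IsAffineHom g] (p : X ⟶ E) (hp : p ≫ g = f) :
    ∃ (A : Adm f) (v : A.E ⟶ E), A.u ≫ v = p ∧ v ≫ g = A.g := by
  obtain ⟨_, _, _⟩ := factor_properties g p hp
  have : LocallyQuasiFinite g := Groth.EtaleBase.locallyQuasiFinite_of_formallyUnramified g
  have : IsLocallyNoetherian E := LocallyOfFiniteType.isLocallyNoetherian g
  have : CompactSpace ↥E := QuasiCompact.compactSpace_of_compactSpace g
  have : AlgebraicGeometry.IsNoetherian E := { }
  obtain ⟨C, hC, hsub, hmax⟩ := exists_clopen g hS p p.isOpenMap.isOpen_range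
  have : IsClosedImmersion C.ι := .of_isPreimmersion C.ι (by rw [Scheme.Opens.range_ι]; exact hC)
  let u : X ⟶ C.toScheme := IsOpenImmersion.lift C.ι p (by rw [Scheme.Opens.range_ι]; exact hsub)
  have hu : u ≫ C.ι = p := IsOpenImmersion.lift_fac _ _ _
  obtain ⟨_, _, _⟩ := factor_properties (C.ι ≫ g) u (by rw [reassoc_of% hu, hp])
  have : IsSchemeTheoreticallyDominant u := by
    refine isSchemeTheoreticallyDominant_of_flat (C.ι ≫ g) hemb u fun z hz => ?_
    obtain ⟨x, hx⟩ := hmax z.1 z.2 fun w hw =>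
      congrArg Subtype.val (hz ⟨w, hw.mem_open C.isOpen z.2⟩ (Topology.IsInducing.subtypeVal.specializes_iff.mp hw))
    refine ⟨x, Subtype.ext ?_⟩
    show (u ≫ C.ι) x = z.1
    rw [hu, hx]
  exact ⟨⟨C.toScheme, C.ι ≫ g, u, inferInstance, inferInstance, inferInstance,
    by rw [reassoc_of% hu, hp]⟩, C.ι, hu, rfl⟩

/-- The locus in `X ×_S X` where the two maps to a factorisation agree. -/
noncomputable def Adm.rel (A : Adm f) : Closeds ↥(pullback f f) :=
  ⟨Set.range (Groth.Pi1Etale.agreeι A.g (pullback.fst f f ≫ A.u) (pullback.snd f f ≫ A.u)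
      (by simp [A.fac, pullback.condition])),
    (Groth.Pi1Etale.isClopen_range_agreeι _ _ _ _).1⟩

omit [AlgebraicGeometry.IsNoetherian S] [Flat f] [LocallyOfFinitePresentation f] [QuasiCompact f] in
theorem Adm.Map.rel_le {A B : Adm f} (h : A.Map B) : A.rel ≤ B.rel := by
  obtain ⟨v, hv, -⟩ := h
  refine Groth.Pi1Etale.range_subset_range_agreeι _ _ _ _ _ ?_
  have := congrArg (· ≫ v) (Groth.EtaleBase.agree_fst_comp A.g (pullback.fst f f ≫ A.u)
    (pullback.snd f f ≫ A.u) (by simp [A.fac, pullback.condition]))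
  simpa [hv] using this

omit [AlgebraicGeometry.IsNoetherian S] in
/-- A refinement with the same relation is an open immersion. -/
theorem Adm.Map.isOpenImmersion {A B : Adm f} (v : A.E ⟶ B.E) (hv : A.u ≫ v = B.u)
    (hg : v ≫ B.g = A.g) (hrel : B.rel ≤ A.rel) : IsOpenImmersion v := by
  have : Etale v := by
    have : Etale (v ≫ B.g) := hg ▸ inferInstance
    exact Etale.of_comp v B.g
  have : IsSeparated v := by
    have : IsSeparated (v ≫ B.g) := hg ▸ inferInstance
    exact IsSeparated.of_comp v B.g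
  refine isOpenImmersion_of_refine A.g v B.g hg A.u A.isOpen_range A.denseRange
    (by rw [hv]; exact B.denseRange) ?_
  let k := A.u ≫ v
  have hk : k ≫ B.g = f := by simp only [k]; rw [Category.assoc, hg, A.fac]
  let e : pullback k k ⟶ pullback f f := pullback.lift (pullback.fst k k) (pullback.snd k k)
    ((congrArg _ hk.symm).trans ((pullback.condition_assoc B.g).trans (congrArg _ hk)))
  have he : Set.range e ⊆ (A.rel : Set ↥(pullback f f)) := by
    refine Set.Subset.trans ?_ hrel
    refine Groth.Pi1Etale.range_subset_range_agreeι _ _ _ _ e ?_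
    simp only [e, pullback.lift_fst_assoc, pullback.lift_snd_assoc]
    rw [← hv]
    exact pullback.condition
  let ι := Groth.Pi1Etale.agreeι A.g (pullback.fst f f ≫ A.u) (pullback.snd f f ≫ A.u)
      (by simp [A.fac, pullback.condition])
  have : Surjective (pullback.fst e ι) := ⟨fun z => by
    obtain ⟨a, ha⟩ := he ⟨z, rfl⟩
    obtain ⟨w, hw, -⟩ := Scheme.Pullback.exists_preimage_pullback (f := e) (g := ι) z a ha.symm
    exact ⟨w, hw⟩⟩
  refine Groth.EtaleBase.eq_of_surjective_agree A.g _ _ ?_ (pullback.fst e ι) ?_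
  · simp only [Category.assoc, A.fac]
    exact (congrArg _ hk.symm).trans ((pullback.condition_assoc B.g).trans (congrArg _ hk))
  · have h1 := congrArg (pullback.snd e ι ≫ ·) (Groth.EtaleBase.agree_fst_comp A.g
      (pullback.fst f f ≫ A.u) (pullback.snd f f ≫ A.u) (by simp [A.fac, pullback.condition]))
    have h2 : ∀ {Z : Scheme.{u}} (b : pullback f f ⟶ Z),
        pullback.snd e ι ≫ ι ≫ b = pullback.fst e ι ≫ e ≫ b :=
      fun b => (pullback.condition_assoc b).symm
    have h3 := ((h2 _).symm.trans h1).trans (h2 _)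
    have he1 : e ≫ pullback.fst f f = pullback.fst k k := pullback.lift_fst _ _ _
    have he2 : e ≫ pullback.snd f f = pullback.snd k k := pullback.lift_snd _ _ _
    rw [reassoc_of% he1, reassoc_of% he2] at h3
    exact h3

/-- A class of admissible factorisations with common refinements has an initial member. -/
theorem exists_initial (P : Adm f → Prop) (hne : ∃ A, P A)
    (hsup : ∀ A B, P A → P B → ∃ C, P C ∧ C.Map A ∧ C.Map B) :
    ∃ A, P A ∧ ∀ B, P B → A.Map B := by
  have : IsLocallyNoetherian X := LocallyOfFiniteType.isLocallyNoetherian f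
  have : IsLocallyNoetherian (pullback f f) := LocallyOfFiniteType.isLocallyNoetherian (pullback.fst f f)
  have : CompactSpace ↥X := QuasiCompact.compactSpace_of_compactSpace f
  have : CompactSpace ↥(pullback f f) := QuasiCompact.compactSpace_of_compactSpace (pullback.fst f f)
  have : AlgebraicGeometry.IsNoetherian (pullback f f) := { }
  obtain ⟨_, ⟨E₀, hE₀, rfl⟩, hmin⟩ :=
    (wellFounded_lt (α := Closeds ↥(pullback f f))).has_min (Adm.rel '' {A | P A})
      (Set.Nonempty.image _ hne)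
  have hE₀N := E₀.isNoetherian
  have hrel : ∀ A, P A → A.Map E₀ → E₀.rel ≤ A.rel := fun A hA hm =>
    (eq_of_le_of_not_lt hm.rel_le (hmin _ ⟨A, hA, rfl⟩)).ge
  let V : E₀.E.Opens := ⟨Set.range E₀.u, E₀.isOpen_range⟩
  have hV : Dense (V : Set E₀.E) := E₀.denseRange
  let G : Set E₀.E := {ξ | ξ ∈ (V : Set E₀.E)ᶜ ∧ ∀ w ∈ (V : Set E₀.E)ᶜ, w ⤳ ξ → w = ξ}
  have hG : G.Finite := finite_maximal V.isOpen.isClosed_compl
  let 𝒢 : Set (Set E₀.E) := {T | ∃ (A : Adm f) (v : A.E ⟶ E₀.E), P A ∧ A.u ≫ v = E₀.u ∧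
    v ≫ E₀.g = A.g ∧ T = G \ Set.range v}
  have h𝒢 : 𝒢.Finite := hG.finite_subsets.subset (by
    rintro _ ⟨A, v, -, -, -, rfl⟩; exact Set.sdiff_subset)
  obtain ⟨_, ⟨F, vF, hF, hvF, hgF, rfl⟩, hFmax⟩ := h𝒢.exists_maximal
    ⟨_, E₀, 𝟙 _, hE₀, Category.comp_id _, Category.id_comp _, rfl⟩
  -- the complement of the image is determined by `G`
  have hdet : ∀ (A : Adm f) (v : A.E ⟶ E₀.E), P A → A.u ≫ v = E₀.u → v ≫ E₀.g = A.g →
      ∀ y, y ∉ Set.range v → ∃ ξ ∈ G \ Set.range v, ξ ⤳ y := by
    intro A v hA hu hg y hy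
    have : IsOpenImmersion v := Adm.Map.isOpenImmersion v hu hg (hrel A hA ⟨v, hu, hg⟩)
    have : IsAffineHom v := by
      have : IsAffineHom (v ≫ E₀.g) := hg ▸ inferInstance
      exact IsAffineHom.of_comp v E₀.g
    let O := v.opensRange
    have : IsAffineHom O.ι := by
      rw [← v.isoOpensRange_inv_comp]; infer_instance
    obtain ⟨ξ, hξ, hξy, hξmax⟩ := exists_maximal_specializes (Z := (O : Set E₀.E)ᶜ)
      O.isOpen.isClosed_compl hy
    have hVO : V ≤ O := by
      rintro _ ⟨x, rfl⟩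
      exact ⟨A.u x, by rw [← Scheme.Hom.comp_apply, hu]⟩
    exact ⟨ξ, ⟨⟨fun h => hξ (hVO h), mem_maximal_compl hV hξ hξmax⟩, hξ⟩, hξy⟩
  refine ⟨F, hF, fun D hD => ?_⟩
  obtain ⟨C, hC, ⟨c, hcu, hcg⟩, d⟩ := hsup F D hF hD
  have hcu' : C.u ≫ c ≫ vF = E₀.u := by rw [reassoc_of% hcu, hvF]
  have hcg' : (c ≫ vF) ≫ E₀.g = C.g := by rw [Category.assoc, hgF, hcg]
  have : IsOpenImmersion vF := Adm.Map.isOpenImmersion vF hvF hgF (hrel F hF ⟨vF, hvF, hgF⟩)
  have : IsOpenImmersion (c ≫ vF) :=
    Adm.Map.isOpenImmersion _ hcu' hcg' (hrel C hC ⟨_, hcu', hcg'⟩)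
  have : IsOpenImmersion c := IsOpenImmersion.of_comp c vF
  have hsurj : Surjective c := by
    have heq : G \ Set.range (c ≫ vF) ⊆ G \ Set.range vF :=
      hFmax ⟨C, c ≫ vF, hC, hcu', hcg', rfl⟩ (Set.sdiff_subset_sdiff_right (by
        rintro _ ⟨z, rfl⟩; exact ⟨c z, rfl⟩))
    refine ⟨fun z => ?_⟩
    have : vF z ∈ Set.range (c ≫ vF) := by
      by_contra hz
      obtain ⟨ξ, hξ, hξz⟩ := hdet C _ hC hcu' hcg' _ hz
      exact (heq hξ).2 (hξz.mem_open vF.isOpenEmbedding.isOpen_range ⟨z, rfl⟩)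
    obtain ⟨y, hy⟩ := this
    exact ⟨y, vF.isOpenEmbedding.injective hy⟩
  have : IsIso c := (isIso_iff_isOpenImmersion_and_surjective c).2 ⟨inferInstance, hsurj⟩
  exact Adm.Map.trans ⟨inv c, by rw [IsIso.comp_inv_eq, hcu], by rw [IsIso.inv_comp_eq, hcg]⟩ d

end Groth.EtHull
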