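import Groth.Agent.FBaseGeom.AssBC
import Groth.Agent.EtaleBaseTwo.EtaleComponents
import Groth.Agent.GrpschAbsch.SchDense
import Mathlib.AlgebraicGeometry.Morphisms.FlatMono
import Mathlib.AlgebraicGeometry.Noetherian

/-!
# Schemes étale over a base without embedded points
-/

set_option autoImplicit false
universe u

open CategoryTheory CategoryTheory.Limits AlgebraicGeometry TopologicalSpace

namespace Groth.EtHull

variable {P S : Scheme.{u}}

/-- Over a locally Noetherian scheme without embedded points, a point of an étale scheme all of whose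
maximal ideal consists of zero divisors is maximal for specialization. -/
theorem eq_of_specializes_of_etale (g : P ⟶ S) [Etale g] [IsLocallyNoetherian S] [LocallyQuasiFinite g]
    (hemb : AssSch.NoEmbedded (Coh.structureModule S)) (z : P)
    (hz : ∀ a ∈ IsLocalRing.maximalIdeal (P.presheaf.stalk z), a ∉ nonZeroDivisors (P.presheaf.stalk z))
    (w : P) (hw : w ⤳ z) : w = z := by
  let R := S.presheaf.stalk (g z)
  let _ : Algebra R (P.presheaf.stalk z) := (g.stalkMap z).hom.toAlgebra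
  have : Module.Flat R (P.presheaf.stalk z) := Flat.stalkMap g z
  have : IsLocalHom (algebraMap R (P.presheaf.stalk z)) := inferInstanceAs (IsLocalHom (g.stalkMap z).hom)
  have hR : ∀ a ∈ IsLocalRing.maximalIdeal R, a ∉ nonZeroDivisors R := by
    intro a ha hreg
    refine hz _ ((IsLocalRing.mem_maximalIdeal _).mpr fun hu => (IsLocalRing.mem_maximalIdeal a).mp ha
      (isUnit_of_map_unit (algebraMap R _) a hu)) (mem_nonZeroDivisors_iff_right.mpr fun b hb => ?_)
    refine Module.Flat.isSMulRegular_of_nonZeroDivisors (R := R) (M := P.presheaf.stalk z) hreg ?_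
    show a • b = a • (0 : P.presheaf.stalk z)
    rw [smul_zero, Algebra.smul_def, mul_comm]
    exact hb
  have hass : IsLocalRing.maximalIdeal R ∈ associatedPrimes R R := by
    have hsub : (IsLocalRing.maximalIdeal R : Set R) ⊆ ⋃ p ∈ associatedPrimes R R, (p : Set R) :=
      fun a ha => (biUnion_associatedPrimes_eq_compl_nonZeroDivisors R).ge (hR a ha)
    rw [Ideal.subset_union_prime_finite (associatedPrimes.finite R R) ⊥ ⊥
      (fun p hp _ _ => IsAssociatedPrime.isPrime hp)] at hsub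
    obtain ⟨p, hp, hle⟩ := hsub
    rwa [(IsLocalRing.maximalIdeal.isMaximal R).eq_of_le (IsAssociatedPrime.isPrime hp).ne_top hle]
  have hAss : Curv2.IsAssPoint (Coh.structureModule S) (g z) := by
    rw [Groth.FBaseGeom.isAssPoint_structure_iff_depth, Groth.Agent.S5752.result]
    exact hass
  have hgw : g w = g z := Groth.FBaseGeom.noEmbedded_iff_maximal.mp hemb (g z) hAss (g w) (hw.map g.continuous)
  have := (g.isDiscrete_preimage_singleton (g z)).to_subtype
  have h : (⟨w, hgw⟩ : g ⁻¹' {g z}) ⤳ ⟨z, rfl⟩ := Topology.IsInducing.subtypeVal.specializes_iff.mp hw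
  exact congrArg Subtype.val h.eq

/-- Functions vanishing near all maximal points vanish. -/
theorem section_eq_zero (g : P ⟶ S) [Etale g] [IsLocallyNoetherian S] [LocallyQuasiFinite g]
    (hemb : AssSch.NoEmbedded (Coh.structureModule S)) {A : P.Opens} (hA : IsAffineOpen A) (s : Γ(P, A))
    (hs : ∀ z (hz : z ∈ A), (∀ w, w ⤳ z → w = z) → P.presheaf.germ A z hz s = 0) : s = 0 := by
  have : IsLocallyNoetherian P := LocallyOfFiniteType.isLocallyNoetherian g
  have : IsNoetherianRing Γ(P, A) := IsLocallyNoetherian.component_noetherian ⟨A, hA⟩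
  by_contra hne
  obtain ⟨p, hp, hann⟩ := exists_le_isAssociatedPrime_of_isNoetherianRing Γ(P, A) s hne
  have := hp.isPrime
  let z' : PrimeSpectrum Γ(P, A) := ⟨p, hp.isPrime⟩
  let z := hA.fromSpec z'
  have hzA : z ∈ A := hA.range_fromSpec.le ⟨z', rfl⟩
  have hzp : (hA.primeIdealOf ⟨z, hzA⟩) = z' :=
    hA.fromSpec.isOpenEmbedding.injective (hA.fromSpec_primeIdealOf _)
  let _ : Algebra Γ(P, A) (P.presheaf.stalk z) := (P.presheaf.germ A z hzA).hom.toAlgebra
  have : IsLocalization.AtPrime (P.presheaf.stalk z) p := by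
    have := hA.isLocalization_stalk ⟨z, hzA⟩
    rw [hzp] at this
    exact this
  have hzd : ∀ a ∈ IsLocalRing.maximalIdeal (P.presheaf.stalk z), a ∉ nonZeroDivisors (P.presheaf.stalk z) := by
    intro a ha hreg
    obtain ⟨⟨r, c⟩, hrc⟩ := IsLocalization.surj p.primeCompl a
    have hr : r ∈ p := by
      rw [← IsLocalization.AtPrime.to_map_mem_maximal_iff (P.presheaf.stalk z) p r, ← hrc]
      exact Ideal.mul_mem_right _ _ ha
    obtain ⟨hprime, m, hm⟩ := hp
    obtain ⟨n, hn⟩ : ∃ n : ℕ, r ^ n * m = 0 := by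
      rw [hm, Ideal.mem_radical_iff] at hr
      obtain ⟨n, hn⟩ := hr
      exact ⟨n, by simpa [Submodule.mem_colon_singleton] using hn⟩
    have h0 : algebraMap Γ(P, A) (P.presheaf.stalk z) m * (a * algebraMap _ _ (c : Γ(P, A))) ^ n = 0 := by
      rw [hrc, ← map_pow, ← map_mul, mul_comm, hn, map_zero]
    have hm0 := mem_nonZeroDivisors_iff_right.mp
      (pow_mem (mul_mem hreg (IsLocalization.map_units (P.presheaf.stalk z) c).mem_nonZeroDivisors) n) _ h0
    obtain ⟨e, he⟩ := (IsLocalization.map_eq_zero_iff p.primeCompl _ m).mp hm0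
    refine e.2 ?_
    exact hm.ge (Ideal.le_radical (by simpa [Submodule.mem_colon_singleton] using he))
  have hgerm := hs z hzA fun w hw => eq_of_specializes_of_etale g hemb z hzd w hw
  obtain ⟨e, he⟩ := (IsLocalization.map_eq_zero_iff p.primeCompl (P.presheaf.stalk z) s).mp hgerm
  refine e.2 (hann ?_)
  simpa using he

/-- A flat finitely presented morphism hitting all maximal points is scheme-theoretically dominant. -/
theorem isSchemeTheoreticallyDominant_of_flat (g : P ⟶ S) [Etale g] [IsLocallyNoetherian S] [LocallyQuasiFinite g]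
    (hemb : AssSch.NoEmbedded (Coh.structureModule S)) {X : Scheme.{u}} (u : X ⟶ P) [Flat u] [QuasiCompact u]
    (hmax : ∀ z : P, (∀ w, w ⤳ z → w = z) → z ∈ Set.range u) : IsSchemeTheoreticallyDominant u := by
  refine ⟨Scheme.IdealSheafData.ext (funext fun A => ?_)⟩
  rw [Scheme.IdealSheafData.ideal_bot, Pi.bot_apply, eq_bot_iff]
  intro s hs
  rw [Ideal.mem_bot]
  rw [Scheme.Hom.ker_apply, RingHom.mem_ker] at hs
  refine section_eq_zero g hemb A.2 s fun z hz hzmax => ?_
  obtain ⟨x, rfl⟩ := hmax z hzmax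
  let _ := (u.stalkMap x).hom.toAlgebra
  have : Module.Flat (P.presheaf.stalk (u x)) (X.presheaf.stalk x) := Flat.stalkMap u x
  have : IsLocalHom (algebraMap (P.presheaf.stalk (u x)) (X.presheaf.stalk x)) :=
    inferInstanceAs (IsLocalHom (u.stalkMap x).hom)
  have : Module.FaithfullyFlat (P.presheaf.stalk (u x)) (X.presheaf.stalk x) :=
    Module.FaithfullyFlat.of_flat_of_isLocalHom
  apply FaithfulSMul.algebraMap_injective (P.presheaf.stalk (u x)) (X.presheaf.stalk x)
  rw [map_zero]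
  show (P.presheaf.germ A.1 (u x) hz ≫ u.stalkMap x).hom s = 0
  rw [Scheme.Hom.germ_stalkMap]
  show (X.presheaf.germ _ x hz).hom ((u.app A.1).hom s) = 0
  rw [hs, map_zero]

/-- The union of the components of `P` meeting the image of `u` is open and closed, and all its
maximal points lie in the image. -/
theorem exists_clopen {X : Scheme.{u}} (g : P ⟶ S) [Etale g] [NoetherianSpace P]
    (hS : ∀ s : S, CAlg2.IsGeomUnibranch (S.presheaf.stalk s)) (u : X ⟶ P) (hu : IsOpen (Set.range u)) :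
    ∃ C : P.Opens, IsClosed (C : Set P) ∧ Set.range u ⊆ C ∧
      ∀ z ∈ C, (∀ w, w ⤳ z → w = z) → z ∈ Set.range u := by
  have huniq := fun z : P => Groth.EtaleBaseTwo.existsUnique_component_of_etale g z (hS _)
  have hfin : (irreducibleComponents (P : Type u)).Finite := NoetherianSpace.finite_irreducibleComponents
  let T : Set (Set P) := {Z | Z ∈ irreducibleComponents (P : Type u) ∧ (Z ∩ Set.range u).Nonempty}
  let T' : Set (Set P) := {Z | Z ∈ irreducibleComponents (P : Type u) ∧ ¬ (Z ∩ Set.range u).Nonempty}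
  have hc : ∀ Z ∈ irreducibleComponents (P : Type u), IsClosed Z := isClosed_of_mem_irreducibleComponents
  have hcompl : (⋃₀ T) = (⋃₀ T')ᶜ := by
    ext z
    obtain ⟨Z, ⟨hZ, hzZ⟩, hu'⟩ := huniq z
    refine ⟨?_, fun hz => ?_⟩
    · rintro ⟨Z₁, ⟨h1, h1'⟩, hz1⟩ ⟨Z₂, ⟨h2, h2'⟩, hz2⟩
      rw [hu' Z₁ ⟨h1, hz1⟩] at h1'
      rw [hu' Z₂ ⟨h2, hz2⟩] at h2'
      exact h2' h1'
    · by_contra hn
      exact hz ⟨Z, ⟨hZ, fun h => hn ⟨Z, ⟨hZ, h⟩, hzZ⟩⟩, hzZ⟩
  have hclosed : IsClosed (⋃₀ T) := by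
    rw [Set.sUnion_eq_biUnion]
    exact (hfin.subset fun Z hZ => hZ.1).isClosed_biUnion fun Z hZ => hc Z hZ.1
  have hclosed' : IsClosed (⋃₀ T') := by
    rw [Set.sUnion_eq_biUnion]
    exact (hfin.subset fun Z hZ => hZ.1).isClosed_biUnion fun Z hZ => hc Z hZ.1
  refine ⟨⟨⋃₀ T, hcompl ▸ hclosed'.isOpen_compl⟩, hclosed, fun z hz => ?_, fun z hz hmax => ?_⟩
  · obtain ⟨Z, ⟨hZ, hzZ⟩, -⟩ := huniq z
    exact ⟨Z, ⟨hZ, z, hzZ, hz⟩, hzZ⟩
  · obtain ⟨Z, ⟨hZ, w, hwZ, hw⟩, hzZ⟩ := hz
    obtain ⟨ζ, hζ⟩ := QuasiSober.sober hZ.1 (hc Z hZ)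
    obtain rfl : ζ = z := hmax ζ (hζ.specializes hzZ)
    exact (hζ.specializes hwZ).mem_open hu hw

end Groth.EtHull
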